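set_option autoImplicit false
namespace Cfsg.Agent.Lib.Helper6.TCD.S82E6
noncomputable def NC (i : Nat) : Nat := Nat.land (Nat.shiftRight 0x1900000000000000008000600000000000000003000170000000000000001000054000000000000000400014000000000000000140004c000000000000000500011000000000000000040004400000000000000050000f0000000000000000c0003c00000000000000050000d000000000000000100003000000000000000050000b000000000000000100002800000000000000020000a00000000000000010000240000000000000003000080000000000000000c000180000000000000000000060000000000000000000014000000000000000200004000000000000000080000c0000000000000001000030000000000000000c000080000000000000004000010000000000000001400000000000000000000000000 (Nat.mul 86 (Nat.land i 511))) 77371252455336267181195263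
end Cfsg.Agent.Lib.Helper6.TCD.S82E6
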