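set_option autoImplicit false
namespace Cfsg.Agent.Lib.Helper6.TCD.S82E6
noncomputable def SC (i : Nat) : Nat := Nat.land (Nat.shiftRight 0xf00800034020000b00800024020000700800000010001d0080006c02000190080000001000100080000000000210080007c020000000400000000001200800028020002300800000010000000000068020001400800030020002300800000010001e0080006802000000100003002000000040000000000200080007002000160080003802000000040000000000200080007002000000100003802000000000005402000130080004402000000040001802000000040008802000000100007002000160080003802000000000007c020000000400060020000000000028020000000400088020002000800000040001600800038020000000000000010000000000068020001400800030020000000400088020002000800070020001600800000040000000000000010001e00800000040001400800030020001d00800000000001900800000010001000800020020000000000000010001e00800068020001400800000040002100800000000000000400000000001200800028020002100800000000000000400060020001200800000040000f00800034020000000000024020000700800000010000f00800034020000b00800024020000001000000010001d0080006c020000000000000010001000800000000001d0080006c02000190080000001000000100000000000170080005402000130080000000000000040001802000210080007c0200000004000000000000000000280200023008000000100000000000680200014008000300200000004000000000020008000700200016008000380200000000000a002000270080009802000250080009002 (Nat.mul 30 (Nat.land i 1023))) 1073741823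
end Cfsg.Agent.Lib.Helper6.TCD.S82E6
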