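set_option autoImplicit false
namespace Cfsg.Agent.Lib.Helper6.TCD.S82E6
noncomputable def WDL0 (i : Nat) : Nat := Nat.land (Nat.shiftRight 0x50504005050040004040400404004000303040030300402020206202020060001010400101004000055020000440200003302000022020000110200000002 (Nat.mul 32 (Nat.land i 15))) 4294967295
noncomputable def WDL1 (i : Nat) : Nat := Nat.land (Nat.shiftRight 0x34343406434343060025250400525204002424040042420423232306323232060015150400515104001414040041410413131306313131060012120400212104 (Nat.mul 32 (Nat.land i 15))) 4294967295
noncomputable def WDP0N0 (i : Nat) : Nat := Bool.rec (WDL0 i) (WDL1 i) (Nat.ble 16 i)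
noncomputable def WDL2 (i : Nat) : Nat := Nat.land (Nat.shiftRight 0x4010000030100000201000001010000000145454506545454060035350400535304 (Nat.mul 32 (Nat.land i 15))) 4294967295
noncomputable def WD (i : Nat) : Nat := Bool.rec (WDP0N0 i) (WDL2 i) (Nat.ble 32 i)
end Cfsg.Agent.Lib.Helper6.TCD.S82E6
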