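import Cfsg.Agent.Lib.Helper6.TCD.S82E6.SH
import Cfsg.Agent.Lib.Helper6.TCD.S82E6.SC
import Cfsg.Agent.Lib.Helper6.TCD.S82E6.NH
import Cfsg.Agent.Lib.Helper6.TCD.S82E6.NC
import Cfsg.Agent.Lib.Helper6.TCD.S82E6.WD
import Cfsg.Agent.Lib.Helper6.TCD.S82E6.WI
set_option autoImplicit false
namespace Cfsg.Agent.Lib.Helper6.TCD.S82E6
def n : Nat := 27
def ncol : Nat := 6
def nrw : Nat := 36
def nw : Nat := 41
def tmax : Nat := 162
def INV : Nat := 5517840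
def N : Nat := 27
end Cfsg.Agent.Lib.Helper6.TCD.S82E6
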