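set_option autoImplicit false
namespace Cfsg.Agent.Lib.Helper6.TCD.S82E6
noncomputable def SH (i : Nat) : Nat := Nat.land (Nat.shiftRight 0x508000d0000a00001a00013e00034000278000680004e8000d00009c0001900013400032000264000640004c0000c8000960001800012e0003200026c000680004a0000c000093000180001200002e00025400064000490000c0000910001800011c0002e00022400054000478000c00008d000170001160002c0002280005c000438000b0000830001400010c0002c00021400058000460000b800084000160000f8000260002200005c000408000a800080000150000fc000280001f4000540003b00008800082000160000f2000240001e0000500003f8000a800077000140000f60002a0001d00004c0003980009800072000130000e0000220001c40004c000348000780006e000120000f4000280001b000040000358000900006a000120000ea0002800019c000440003200007800066000110000de00026000194000440002e80006800062000100000c2000200001b400048000300000800005e0000e0000d00002400015c00030000318000880005a0000d0000b20001e0001600003c00028800058000550000e0000a80001c00014c00038000290000700005f000100000b80002000012c00028000278000680005b0000f00009c0001a0001300002c00024800060000560000f000090000180001140002800023800060000460000c0000a00001c0001000002400021800058000420000b00008200016000134000340001f0000500004a0000d00007400010000110000300001e8000500003b00009000070000120000fc0002c0001a800030000370000900006c000120000f000028000198000400003200008000072000140000c400020000178000380002e000060000580000e0000ac0001c000150000380002900007000060000100000a0000140001300003000025000060000680001200008800010000118000280002d000080000400000a00007c000140000f0000280001d000030000480000c00009c0001c0000d8000200001a0000400003200008000084000180000b800018000180000400002a000060000500000c000090000100001c0000500002c0000800004c0000c000080000100000c000010000220000600003c00008000070000100000d0000200000c0000000002c000080000500000800009000010000100000200001c000040000280000800004000000000060000000000800000000008000000000000000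 (Nat.mul 43 (Nat.land i 1023))) 8796093022207
end Cfsg.Agent.Lib.Helper6.TCD.S82E6
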